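import Cfsg.Agent.H594.QF.VOne
import Cfsg.Agent.H631.Fpf.CardTw
import Cfsg.Agent.H866.OZ.KawTwo

/-!
# Orders in `²E₆(2)`: `|U| = 2 ^ 36`, `|V₄| = 2 ^ 24`, `|L₄| = |Ω₈⁻(2)|` (helper240, for the row F4 of S2491)
-/

set_option autoImplicit false
set_option linter.unusedSectionVars false
set_option maxRecDepth 20000

namespace Cfsg.Agent.H240.F4

open CoxeterSystem Cfsg.Agent.ChevalleyStructure.CoxeterGeom Cfsg.Agent.Tits.Roots Cfsg.Agent.Tits.Core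
  Cfsg.Agent.Nodes Cfsg.Agent.Nodes.Reps Cfsg.Agent.Nodes.BNOf Cfsg.Agent.Nodes.RGDLib Cfsg.Agent.Nodes.Bruhat
  Cfsg.Agent.Nodes.OppDec Cfsg.Agent.Nodes.LeviDec Cfsg.Agent.Nodes.StabComb Cfsg.Agent.Nodes.Unique
open Cfsg.Lie Subgroup
open Cfsg.Agent.H231.QF
open Cfsg.Agent.Nodes.RGDTwCoordE6 Cfsg.Agent.Nodes.RGDTwComE6 Cfsg.Agent.Nodes.RGDTwActE6
open Cfsg.Agent.KFacts.TwESix.Comb (rts mem_rts)
open Cfsg.Agent.H594.QF (hqq card_X two_eq isRoot)

universe u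

/-! ### root combinatorics -/

theorem closed_NotJ (J : Set (Fin 4)) : Closed cs RGDTwE6.isCartan (NotJ cs RGDTwE6.isCartan J) := by
  rintro x ⟨-, hx0, k, hk, hxk⟩ y ⟨-, hy0, -⟩ z hz
  refine ⟨hz.1, RGD.nonneg_of_btwn hx0 hy0 hz, k, hk, ?_⟩
  obtain ⟨-, m, a, b, hm, ha, hb, he⟩ := hz
  have h1 := congrFun he k
  simp only [Pi.add_apply, Pi.smul_apply, smul_eq_mul] at h1
  have h2 : 0 < m * z k := by
    rw [h1]
    exact add_pos_of_pos_of_nonneg (mul_pos ha hxk) (mul_nonneg hb.le (hy0 k))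
  exact (mul_pos_iff_of_pos_left hm).1 h2

/-- the positive roots -/
def posL : List (Fin 4 → ℤ) := rts.filter fun z => decide (∀ i, 0 ≤ z i)

/-- the roots of `V₄` -/
def notL : List (Fin 4 → ℤ) := rts.filter fun z => decide ((∀ i, 0 ≤ z i) ∧ 0 < z 3)

theorem posL_eq : (posL.toFinset : Set (Fin 4 → ℤ)) = RGD.Pos cs RGDTwE6.isCartan := by
  ext z
  rw [Finset.mem_coe, List.mem_toFinset, posL, List.mem_filter, decide_eq_true_eq]
  exact ⟨fun h => ⟨isRoot h.1, h.2⟩, fun h => ⟨(mem_rts cs).1 h.1, h.2⟩⟩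

theorem notL_eq : (notL.toFinset : Set (Fin 4 → ℤ)) = NotJ cs RGDTwE6.isCartan j4 := by
  ext z
  rw [Finset.mem_coe, List.mem_toFinset, notL, List.mem_filter, decide_eq_true_eq]
  constructor
  · rintro ⟨h1, h2, h3⟩
    exact ⟨isRoot h1, h2, 3, fun h => h rfl, h3⟩
  · rintro ⟨h1, h2, k, hk, h3⟩
    have h4 : k = 3 := by
      by_contra h
      exact hk h
    subst h4
    exact ⟨(mem_rts cs).1 h1, h2, h3⟩

theorem posL_mem : ∀ z ∈ posL, z ∈ rts := fun _ h => (List.mem_filter.1 h).1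
theorem notL_mem : ∀ z ∈ notL, z ∈ rts := fun _ h => (List.mem_filter.1 h).1

theorem posL_nodup : posL.Nodup := by decide +kernel
theorem notL_nodup : notL.Nodup := by decide +kernel
theorem posL_prod : (posL.map fun z => if Qv z = 4 then 2 else 4).prod = 2 ^ 36 := by decide +kernel
theorem notL_prod : (notL.map fun z => if Qv z = 4 then 2 else 4).prod = 2 ^ 24 := by decide +kernel

theorem j4_eq : j4 = {j | j ∈ ([0, 1, 2] : List (Fin 4))} := by
  ext k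
  show k ≠ 3 ↔ k ∈ ([0, 1, 2] : List (Fin 4))
  revert k
  decide

section

variable {F : Type u} [Field F] [Fintype F] (hF : Fintype.card F = 4) {φ : F →+* F} (hφ : ∀ t, φ t = t ^ 2)

include hF in
theorem charTwo : CharP F 2 := by
  refine ringChar.of_eq (CharP.ringChar_of_prime_eq_zero Nat.prime_two ?_)
  exact_mod_cast two_eq hF

include hF hφ

theorem card_list {l : List (Fin 4 → ℤ)} (hl : ∀ z ∈ l, z ∈ rts) (hn : l.Nodup) :
    ∏ x ∈ l.toFinset, Nat.card (X φ x) = (l.map fun z => if Qv z = 4 then 2 else 4).prod := by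
  rw [List.prod_toFinset _ hn]
  congr 1
  exact List.map_congr_left fun z hz => card_X hF hφ (hl z hz)

/-- `|U| = 2 ^ 36` -/
theorem card_U : Nat.card ↥(RGD.Sup (X φ) (RGD.Pos cs RGDTwE6.isCartan)) = 2 ^ 36 := by
  have : Fact (Nat.Prime 2) := ⟨Nat.prime_two⟩
  have : CharP F 2 := charTwo hF
  have hfin : Finite CoxeterMatrix.F₄.Group := RGDFold.finite_W (hp := RGDTwE6.hp) cs RGDTwE6.isCartan
    RGDTwE6.foldData
  have R := RGDTwE6.rgd cs hφ (hqq hF) 2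
  have h := Cfsg.Agent.Nodes.CardSup.card_sup R (s := posL.toFinset) posL_eq.le (by rw [posL_eq]; exact closed_pos)
  rw [posL_eq] at h
  rw [← posL_prod, ← card_list hF hφ posL_mem posL_nodup]
  exact h

/-- `|V₄| = 2 ^ 24` -/
theorem card_V4 : Nat.card ↥(V φ j4) = 2 ^ 24 := by
  have : Fact (Nat.Prime 2) := ⟨Nat.prime_two⟩
  have : CharP F 2 := charTwo hF
  have hfin : Finite CoxeterMatrix.F₄.Group := RGDFold.finite_W (hp := RGDTwE6.hp) cs RGDTwE6.isCartan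
    RGDTwE6.foldData
  have R := RGDTwE6.rgd cs hφ (hqq hF) 2
  have h := Cfsg.Agent.Nodes.CardSup.card_sup R (s := notL.toFinset)
    (notL_eq.le.trans fun _ hx => ⟨hx.1, hx.2.1⟩) (by rw [notL_eq]; exact closed_NotJ j4)
  rw [notL_eq] at h
  rw [← notL_prod, ← card_list hF hφ notL_mem notL_nodup]
  exact h

omit hφ in
/-- `|T| = 3` -/
theorem card_T : Nat.card ↥(RGDTwE6.T F 2) = 3 := by
  have hpp : IsPrimePow 2 := Nat.prime_two.isPrimePow
  have hT : Nat.gcd 3 (2 + 1) * Nat.card ↥(RGDTwE6.T F 2) = (2 - 1) ^ 4 * (2 + 1) ^ 2 := by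
    rw [← Cfsg.Agent.S1102.result (K := F) hpp hF]
    congr 1
    exact Nat.card_congr (Subgroup.subgroupOfEquivOfLe inf_le_right).toEquiv
  norm_num at hT
  omega

/-- **B1.** `|L₄| = |Ω₈⁻(2)|` -/
theorem card_Lv : Nat.card ↥(Lv φ j4) = 197406720 := by
  have : Fact (Nat.Prime 2) := ⟨Nat.prime_two⟩
  have : CharP F 2 := charTwo hF
  have hfin : Finite CoxeterMatrix.F₄.Group := RGDFold.finite_W (hp := RGDTwE6.hp) cs RGDTwE6.isCartan
    RGDTwE6.foldData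
  have R := RGDTwE6.rgd cs hφ (hqq hF) 2
  have h1 := Cfsg.Agent.H631.Fpf.CardTw.card_P012 hφ (hqq hF) one_lt_two (p := 2) hF
  have h2 := Cfsg.Agent.H866.OZ.card_PJ_LV R j4
  have h3 := Cfsg.Agent.H35.Poin.card_B' R
  have h4 : Nat.card ↥(RGD.B cs RGDTwE6.isCartan (RGDTwE6.T F 2) (X φ)) = 2 ^ 36 * 3 := by
    rw [h3, card_T hF]
    congr 1
    exact card_U hF hφ
  rw [← j4_eq] at h1
  have h5 : Nat.card ↥(Lv φ j4) * 2 ^ 24 = (1 + 2 + 2 ^ 2 + 2 ^ 4 + 2 ^ 5 + 2 ^ 6) *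
      ((1 + 2 + 2 ^ 3 + 2 ^ 4) * (1 + 2 ^ 2)) * (2 ^ 36 * 3) := by
    rw [← card_V4 hF hφ, ← h4]
    exact h2.symm.trans h1
  omega

end

end Cfsg.Agent.H240.F4
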