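import Cfsg.Agent.H181.TC.Main
import Cfsg.Agent.ClassicalGeometry.GenReflections

/-!
# `Ω₈⁻(2)` is generated by eight root elements (helper240, for the row F4 of S2491)

* `N8_le` : a subgroup of the isometry group which contains the eight elements `IsG` contains the commutator subgroup;
* `trans_sing` : the commutator subgroup is transitive on the singular vectors `≠ 0`.
-/

set_option autoImplicit false
set_option maxRecDepth 100000

namespace Cfsg.Agent.H240.F4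

open Cfsg.Agent.H181.O8m Cfsg.Agent.H612.Ore Cfsg.Agent.H201.O8 Cfsg.Agent.LieClassical.OrthCore
  Cfsg.Agent.LieClassical.OmegaReindex Cfsg.Agent.LieClassical.OrthFinite Cfsg.Agent.ClassicalGeometry.OrthDickson
  Cfsg.Agent.ClassicalGeometry.Reflection QuadraticMap
open scoped commutatorElement

/-- the columns of the eight elements -/
def cL : List (List ℕ) :=
  [[3, 2, 4, 8, 16, 48, 64, 128], [1, 3, 4, 8, 48, 32, 64, 128], [1, 6, 4, 8, 16, 32, 96, 128], [1, 2, 6, 8,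
  16, 96, 64, 128], [1, 2, 76, 8, 16, 32, 64, 192], [1, 2, 204, 72, 16, 32, 64, 192], [1, 2, 4, 8, 16, 32, 76,
  132], [1, 2, 4, 12, 16, 32, 196, 128]]

/-- column `i` of the element `k` -/
def c (k i : ℕ) : ℕ := (cL.getD k []).getD i 0

/-- one of the eight elements -/
def IsG (g : O8) : Prop := ∃ k < 8, ∀ i < 8, (g : V ≃ₗ[ZMod 2] V) (dec (2 ^ i)) = dec (c k i)

/-- the codes of the eight elements -/
def gk (k : ℕ) : ℕ :=
  [9241439280776348163, 9241421826029257473, 9250428887845045761, 9241492057334612481, 13853107707022410241, 13853107708104540673, 9533029764462543361, 9278576385583219201].getD k 0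

theorem col_gk : ∀ k < 8, ∀ i < 8, col 8 (gk k) i = c k i := by decide +kernel

theorem gk_isomF : ∀ k < 8, isomF 8 mQ8 mB8 b8 q8 (gk k) = true := by decide +kernel

theorem c_lt : ∀ k < 8, ∀ i < 8, c k i < 256 := by decide +kernel

theorem rep_of {g : O8} {k : ℕ} (hk : k < 8) (h : ∀ i < 8, (g : V ≃ₗ[ZMod 2] V) (dec (2 ^ i)) = dec (c k i)) :
    act.Rep g (gk k) := by
  intro i hi
  rw [act_ap, h i hi, cd_dec (c_lt k hk i hi), col_gk k hk i hi]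

theorem isG_of_rep {g : O8} {k : ℕ} (hk : k < 8) (h : act.Rep g (gk k)) : IsG g := by
  refine ⟨k, hk, fun i hi => ?_⟩
  have h1 := h i hi
  rw [act_ap, col_gk k hk i hi] at h1
  rw [← dec_cd ((g : V ≃ₗ[ZMod 2] V) (dec (2 ^ i))), h1]

theorem exists_G {k : ℕ} (hk : k < 8) : ∃ g : O8, IsG g ∧ act.Rep g (gk k) := by
  obtain ⟨g, hg⟩ := act.exists_rep (isom_of masks (gk_isomF k hk))
  exact ⟨g, isG_of_rep hk hg, hg⟩

/-! ### words -/

/-- value of a word -/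
def ev : List ℕ → ℕ → ℕ
  | [], v => v
  | k :: l, v => apc 8 (gk k) (ev l v)

theorem exists_word {M : Subgroup ↥O8} (h : ∀ g : ↥O8, IsG g → g ∈ M) :
    ∀ l : List ℕ, (l.all fun k => k < 8) = true → ∃ g ∈ M, ∀ v < 256, act.ap g v = ev l v := by
  intro l
  induction l with
  | nil => intro _; exact ⟨1, one_mem _, fun v hv => act.one v hv⟩
  | cons k l ih =>
    intro hl
    rw [List.all_cons, Bool.and_eq_true, decide_eq_true_eq] at hl
    obtain ⟨g, hg, h1⟩ := ih hl.2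
    obtain ⟨x, hx, hr⟩ := exists_G hl.1
    refine ⟨x * g, mul_mem (h x hx) hg, fun v hv => ?_⟩
    rw [act.mul _ _ _ hv, h1 v hv]
    have h2 : ev l v < 2 ^ 8 := by rw [← h1 v hv]; exact act.lt _ _ hv
    rw [act.ap_eq hr h2]
    rfl

/-- words reaching the nonsingular vectors from `8` -/
def words : List (List ℕ) :=
  [[], [7, 0, 1, 3, 7], [2, 3, 7], [2, 1, 3, 7], [7], [0, 1, 3, 7], [3, 7], [1, 3, 7], [0, 2, 1, 3, 6, 0, 2,
  5], [2, 1, 3, 6, 0, 2, 5], [0, 1, 3, 6, 0, 2, 5], [1, 3, 6, 0, 2, 5], [5, 1, 0, 2, 5], [2, 3, 7, 5, 1, 0, 2,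
  5], [7, 5, 1, 0, 2, 5], [3, 7, 5, 1, 0, 2, 5], [2, 3, 6, 2, 5], [2, 1, 3, 6, 2, 5], [3, 6, 2, 5], [1, 3, 6,
  2, 5], [3, 2, 5], [7, 3, 1, 3, 7, 3, 2, 5], [7, 3, 2, 5], [3, 1, 3, 7, 3, 2, 5], [0, 2, 1, 3, 6, 2, 5], [2,
  3, 6, 0, 2, 5], [0, 1, 3, 6, 2, 5], [3, 6, 0, 2, 5], [3, 0, 2, 5], [2, 1, 3, 7, 5, 1, 0, 2, 5], [7, 3, 0, 2,
  5], [1, 3, 7, 5, 1, 0, 2, 5], [6, 5], [0, 1, 3, 6, 5], [3, 6, 5], [1, 3, 6, 5], [5], [6, 0, 1, 3, 6, 5], [6,
  3, 6, 5], [6, 1, 3, 6, 5], [1, 0, 2, 1, 3, 6, 5], [1, 0, 2, 3, 6, 5], [6, 1, 0, 2, 5], [3, 6, 1, 0, 2, 5],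
  [1, 0, 2, 5], [6, 3, 6, 1, 0, 2, 5], [0, 1, 3, 7, 3, 0, 2, 5], [1, 3, 7, 3, 0, 2, 5], [2, 3, 6, 5], [2, 1, 3,
  6, 5], [6, 2, 5], [3, 1, 3, 6, 2, 5], [2, 5], [6, 3, 1, 3, 6, 2, 5], [3, 7, 3, 2, 5], [1, 3, 7, 3, 2, 5], [0,
  2, 1, 3, 6, 5], [0, 2, 3, 6, 5], [6, 0, 2, 5], [1, 3, 6, 1, 0, 2, 5], [0, 2, 5], [6, 1, 3, 6, 1, 0, 2, 5],
  [0, 1, 3, 7, 3, 2, 5], [3, 7, 3, 0, 2, 5], [6, 5, 7], [6, 5, 0, 1, 3, 7], [2, 5, 3, 7], [2, 5, 1, 3, 7], [5,
  7], [5, 0, 1, 3, 7], [5, 3, 7], [5, 1, 3, 7], [4, 7, 5], [6, 5, 0, 1, 3, 6, 5], [2, 5, 3, 6, 5], [2, 5, 1, 3,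
  6, 5], [5, 6, 5], [5, 0, 1, 3, 6, 5], [5, 3, 6, 5], [5, 1, 3, 6, 5], [4, 7, 6, 1, 0, 2, 5], [4, 7, 3, 6, 1,
  0, 2, 5], [5, 7, 5, 1, 0, 2, 5], [5, 3, 7, 5, 1, 0, 2, 5], [4, 7, 1, 0, 2, 5], [2, 5, 3, 6, 1, 0, 2, 5], [5,
  6, 1, 0, 2, 5], [5, 3, 6, 1, 0, 2, 5], [3, 7, 6, 2, 5], [3, 7, 3, 1, 3, 6, 2, 5], [5, 7, 3, 2, 5], [3, 7, 2,
  1, 3, 6, 5], [3, 7, 2, 5], [6, 5, 3, 1, 3, 6, 2, 5], [5, 6, 2, 5], [5, 3, 1, 3, 6, 2, 5], [3, 7, 6, 0, 2, 5],
  [3, 7, 1, 3, 6, 1, 0, 2, 5], [5, 7, 3, 0, 2, 5], [3, 7, 0, 2, 1, 3, 6, 5], [3, 7, 0, 2, 5], [2, 5, 1, 3, 6,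
  1, 0, 2, 5], [5, 6, 0, 2, 5], [5, 1, 3, 6, 1, 0, 2, 5], [7, 6, 5], [7, 0, 1, 3, 6, 5], [7, 3, 6, 5], [7, 1,
  3, 6, 5], [7, 5], [7, 6, 0, 1, 3, 6, 5], [7, 6, 3, 6, 5], [7, 6, 1, 3, 6, 5], [7, 6, 1, 0, 2, 5], [7, 3, 6,
  1, 0, 2, 5], [7, 1, 0, 2, 1, 3, 6, 5], [7, 1, 0, 2, 3, 6, 5], [7, 1, 0, 2, 5], [2, 5, 3, 6, 0, 2, 5], [5, 0,
  1, 3, 6, 0, 2, 5], [5, 1, 3, 6, 0, 2, 5], [7, 6, 2, 5], [7, 3, 1, 3, 6, 2, 5], [7, 2, 3, 6, 5], [7, 2, 1, 3,
  6, 5], [7, 2, 5], [7, 6, 3, 1, 3, 6, 2, 5], [5, 3, 6, 2, 5], [5, 1, 3, 6, 2, 5], [7, 6, 0, 2, 5], [7, 1, 3,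
  6, 1, 0, 2, 5], [7, 0, 2, 1, 3, 6, 5], [7, 0, 2, 3, 6, 5], [7, 0, 2, 5], [2, 5, 1, 3, 6, 0, 2, 5], [5, 0, 1,
  3, 6, 2, 5], [5, 3, 6, 0, 2, 5]]

theorem words_ev : words.map (fun l => ev l 8) = (List.range 256).filter qn := by decide +kernel

theorem words_all : words.all (fun l => l.all fun k => k < 8) = true := by decide +kernel

theorem exists_to {M : Subgroup ↥O8} (h : ∀ g : ↥O8, IsG g → g ∈ M) {v : ℕ} (hv : v < 256) (hq : qn v = true) :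
    ∃ g ∈ M, act.ap g 8 = v := by
  have h1 : v ∈ words.map (fun l => ev l 8) := by
    rw [words_ev, List.mem_filter, List.mem_range]
    exact ⟨hv, hq⟩
  obtain ⟨l, hl, rfl⟩ := List.mem_map.1 h1
  obtain ⟨g, hg, h2⟩ := exists_word h l (List.all_eq_true.1 words_all l hl)
  exact ⟨g, hg, h2 8 (by norm_num)⟩

/-! ### the reflection in the vector `8` -/

theorem qn8 : qn 8 = true := by decide

/-- the reflection -/
noncomputable abbrev r8 : O8 := rf 8 qn8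

theorem ap_r8 (v : ℕ) (hv : v < 256) : act.ap r8 v = v ^^^ (bif Bn 8 v then 8 else 0) := by
  rw [act_ap, rf_dec, cd_dec]
  have h8 : (bif Bn 8 v then 8 else 0) < 2 ^ 8 := by cases Bn 8 v <;> decide
  exact Nat.xor_lt_two_pow (n := 8) hv h8

theorem r8_sq : r8 * r8 = 1 := by
  apply act.faithful
  intro i hi
  rw [act.mul _ _ _ (two_pow_lt (n := 8) hi), ap_r8 _ (two_pow_lt (n := 8) hi)]
  revert i
  have key : ∀ i < 8, (2 ^ i ^^^ (bif Bn 8 (2 ^ i) then 8 else 0)) < 256 ∧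
      (2 ^ i ^^^ (bif Bn 8 (2 ^ i) then 8 else 0)) ^^^
        (bif Bn 8 (2 ^ i ^^^ (bif Bn 8 (2 ^ i) then 8 else 0)) then 8 else 0) = 2 ^ i := by decide +kernel
  intro i hi
  rw [ap_r8 _ (key i hi).1, (key i hi).2]

theorem r8_inv : r8⁻¹ = r8 := inv_eq_of_mul_eq_one_left r8_sq

/-- conjugates of the eight elements by the reflection -/
def cw (k : ℕ) : List ℕ := if k = 5 then [4, 5] else if k = 7 then [6, 7] else [k]

theorem cw_all : ∀ k < 8, ((cw k).all fun k => k < 8) = true := by decide +kernel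

theorem cw_ev : ∀ k < 8, ∀ i < 8, (c k i ^^^ (bif Bn 8 (c k i) then 8 else 0)) =
    ev (cw k) (2 ^ i ^^^ (bif Bn 8 (2 ^ i) then 8 else 0)) ∧ (2 ^ i ^^^ (bif Bn 8 (2 ^ i) then 8 else 0)) < 256 := by
  decide +kernel

theorem conj_mem {M : Subgroup ↥O8} (h : ∀ g : ↥O8, IsG g → g ∈ M) {g : O8} (hg : IsG g) : r8 * g * r8⁻¹ ∈ M := by
  obtain ⟨k, hk, hg'⟩ := hg
  have hr := rep_of hk hg'
  obtain ⟨w, hw, h1⟩ := exists_word h (cw k) (cw_all k hk)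
  have h2 : r8 * g = w * r8 := by
    apply act.ext
    intro i hi
    have hi' : 2 ^ i < 2 ^ 8 := two_pow_lt (n := 8) hi
    rw [act.mul _ _ _ hi', act.mul _ _ _ hi', hr i hi, col_gk k hk i hi, ap_r8 _ (c_lt k hk i hi), ap_r8 _ hi',
      h1 _ (cw_ev k hk i hi).2, (cw_ev k hk i hi).1]
  rw [h2, mul_inv_cancel_right]
  exact hw

/-- the subgroup generated by the eight elements -/
def M0 : Subgroup ↥O8 := Subgroup.closure {g | IsG g}

theorem M0_h : ∀ g : ↥O8, IsG g → g ∈ M0 := fun _ hg => Subgroup.subset_closure hg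

theorem conj_M0 {x : O8} (hx : x ∈ M0) : r8 * x * r8⁻¹ ∈ M0 := by
  have h : M0 ≤ M0.comap (MulAut.conj r8).toMonoidHom := by
    conv_lhs => rw [M0]
    rw [Subgroup.closure_le]
    intro g hg
    exact conj_mem M0_h hg
  exact h hx

theorem conj_M0' {x : O8} (hx : x ∈ M0) : r8 * x * r8 ∈ M0 := by
  have := conj_M0 hx
  rwa [r8_inv] at this

/-- `M0` and its coset -/
def K0 : Subgroup ↥O8 where
  carrier := {x | x ∈ M0 ∨ x * r8 ∈ M0}
  one_mem' := Or.inl (one_mem _)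
  mul_mem' := by
    rintro x y (hx | hx) (hy | hy)
    · exact Or.inl (mul_mem hx hy)
    · right
      rw [mul_assoc]
      exact mul_mem hx hy
    · right
      have e : x * y * r8 = (x * r8) * (r8 * y * r8) := by
        calc x * y * r8 = x * 1 * y * r8 := by rw [mul_one]
          _ = x * (r8 * r8) * y * r8 := by rw [r8_sq]
          _ = _ := by simp only [mul_assoc]
      rw [e]
      exact mul_mem hx (conj_M0' hy)
    · left
      have e : x * y = (x * r8) * (r8 * (y * r8) * r8) := by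
        calc x * y = x * 1 * y * 1 := by rw [mul_one, mul_one]
          _ = x * (r8 * r8) * y * (r8 * r8) := by rw [r8_sq]
          _ = _ := by simp only [mul_assoc]
      rw [e]
      exact mul_mem hx (conj_M0' hy)
  inv_mem' := by
    rintro x (hx | hx)
    · exact Or.inl (inv_mem hx)
    · right
      have e : x⁻¹ * r8 = r8 * (x * r8)⁻¹ * r8 := by
        rw [mul_inv_rev, r8_inv, ← mul_assoc, r8_sq, one_mul]
      rw [e]
      exact conj_M0' (inv_mem hx)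

theorem rf_eq {a : ℕ} (ha : qn a = true) (h0 : q (dec a) ≠ 0) : isometryEquiv q (reflIso q (dec a) h0) = rf a ha := by
  apply Subtype.ext
  ext1 x
  show _ = refl q (dec a) h0 x
  rw [isometryEquiv_apply, coe_reflIso, reflectionMatrix_mulVec, refl_apply]

theorem rf_mem_K0 {a : ℕ} (ha : qn a = true) (h256 : a < 256) : rf a ha ∈ K0 := by
  obtain ⟨g, hg, e⟩ := exists_to M0_h h256 ha
  right
  have e1 : (g : V ≃ₗ[ZMod 2] V) (dec 8) = dec a := by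
    apply cd_inj
    rw [cd_dec h256]
    exact e
  have h2 : rf a ha = g * r8 * g⁻¹ := by
    rw [eq_mul_inv_iff_mul_eq]
    apply Subtype.ext
    apply LinearEquiv.ext
    intro y
    have h0 : q (dec 8) ≠ 0 := by rw [q_dec, qn8]; decide
    have h0' : q (dec a) ≠ 0 := by rw [q_dec, ha]; decide
    show refl q (dec a) h0' ((g : V ≃ₗ[ZMod 2] V) y) = (g : V ≃ₗ[ZMod 2] V) (refl q (dec 8) h0 y)
    have h1 : q (dec 8) = 1 := by rw [q_dec, qn8]; rfl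
    have h1' : q (dec a) = 1 := by rw [q_dec, ha]; rfl
    rw [refl_apply, refl_apply, map_sub, map_smul, e1, h1, h1']
    have h3 : polar q (dec a) ((g : V ≃ₗ[ZMod 2] V) y) = polar q (dec 8) y := by
      rw [← e1]
      exact polar_map g.2 _ _
    rw [h3]
  have h3 : rf a ha * r8 = g * (r8 * g⁻¹ * r8) := by rw [h2]; group
  rw [h3]
  exact mul_mem hg (conj_M0' (inv_mem hg))

theorem K0_top (x : O8) : x ∈ K0 := by
  have h : (⊤ : Subgroup (Cfsg.isometryGroup (ZMod 2) ⇑q)) ≤ K0.comap (isometryEquiv q).toMonoidHom := by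
    rw [← Cfsg.Agent.ClassicalGeometry.GenReflections.closure_refls_eq_top q nondeg (Or.inr card_ix),
      Subgroup.closure_le]
    rintro g ⟨v, hv, hr⟩
    obtain ⟨a, ha, rfl⟩ := dec_surj v
    have hg : g = reflIso q (dec a) hv := Subtype.ext (Units.ext (by rw [hr, coe_reflIso]))
    subst hg
    have hq : qn a = true := by
      by_contra h
      apply hv
      rw [Bool.not_eq_true] at h
      rw [q_dec, h]
      rfl
    show isometryEquiv q (reflIso q (dec a) hv) ∈ K0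
    rw [rf_eq hq]
    exact rf_mem_K0 hq ha
  obtain ⟨y, rfl⟩ := (isometryEquiv q).surjective x
  exact h (Subgroup.mem_top y)

instance M0_normal : (M0 : Subgroup ↥O8).Normal := by
  refine ⟨fun y hy x => ?_⟩
  rcases K0_top x with hx | hx
  · exact mul_mem (mul_mem hx hy) (inv_mem hx)
  · have e : x * y * x⁻¹ = (x * r8) * (r8 * y * r8) * (x * r8)⁻¹ := by
      rw [mul_inv_rev, r8_inv]
      calc x * y * x⁻¹ = x * 1 * y * 1 * x⁻¹ := by rw [mul_one, mul_one]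
        _ = x * (r8 * r8) * y * (r8 * r8) * x⁻¹ := by rw [r8_sq]
        _ = _ := by simp only [mul_assoc]
    rw [e]
    exact mul_mem (mul_mem hx (conj_M0' hy)) (inv_mem hx)

theorem N8_le_M0 : N8 ≤ M0 := by
  have key : ∀ x : O8, (QuotientGroup.mk x : ↥O8 ⧸ M0) = 1 ∨ (QuotientGroup.mk x : ↥O8 ⧸ M0) = QuotientGroup.mk r8 := by
    intro x
    rcases K0_top x with hx | hx
    · exact Or.inl ((QuotientGroup.eq_one_iff x).2 hx)
    · right
      have h1 : (QuotientGroup.mk (x * r8) : ↥O8 ⧸ M0) = 1 := (QuotientGroup.eq_one_iff _).2 hx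
      rw [QuotientGroup.mk_mul] at h1
      have h2 := eq_inv_of_mul_eq_one_left h1
      rw [h2, ← QuotientGroup.mk_inv, r8_inv]
  have hN : N8 = ⁅(⊤ : Subgroup ↥O8), (⊤ : Subgroup ↥O8)⁆ := rfl
  rw [hN, Subgroup.commutator_le]
  intro x _ y _
  rw [← QuotientGroup.eq_one_iff]
  show (QuotientGroup.mk (x * y * x⁻¹ * y⁻¹) : ↥O8 ⧸ M0) = 1
  rw [QuotientGroup.mk_mul, QuotientGroup.mk_mul, QuotientGroup.mk_mul, QuotientGroup.mk_inv, QuotientGroup.mk_inv]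
  rcases key x with hx | hx <;> rcases key y with hy | hy <;> rw [hx, hy] <;> group

/-- **B2.** A subgroup containing the eight elements contains `Ω₈⁻(2)`. -/
theorem N8_le {M : Subgroup ↥O8} (h : ∀ g : ↥O8, IsG g → g ∈ M) : N8 ≤ M :=
  N8_le_M0.trans (by rw [M0, Subgroup.closure_le]; exact h)

/-! ### transitivity on the singular vectors -/

theorem exists_to_one {v : V} (h0 : v ≠ 0) (hq : q v = 0) : ∃ g ∈ N8, ((g : ↥O8) : V ≃ₗ[ZMod 2] V) v = dec 1 := by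
  obtain ⟨a, ha, rfl⟩ := dec_surj v
  have hqa : qn a = false := by
    by_contra h
    rw [Bool.not_eq_false] at h
    rw [q_dec, h] at hq
    exact absurd hq (by decide)
  have ha0 : a ≠ 0 := by rintro rfl; exact h0 dec_zero
  obtain ⟨h, hh⟩ := exists_tr ha hqa ha0
  have e1 : (h : V ≃ₗ[ZMod 2] V) (dec a) = dec 1 := by
    apply cd_inj
    rw [cd_dec (by norm_num)]
    exact hh
  by_cases hm : h ∈ N8
  · exact ⟨h, hm, e1⟩
  · refine ⟨r8 * h, mul_mem_N8 (rf_notMem qn8) hm, ?_⟩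
    show (r8 : V ≃ₗ[ZMod 2] V) ((h : V ≃ₗ[ZMod 2] V) (dec a)) = dec 1
    rw [e1, rf_dec]
    decide +kernel

/-- **B3.** `Ω₈⁻(2)` is transitive on the singular vectors `≠ 0`. -/
theorem trans_sing {v w : V} (hv : v ≠ 0) (hw : w ≠ 0) (qv : q v = 0) (qw : q w = 0) :
    ∃ g ∈ N8, ((g : ↥O8) : V ≃ₗ[ZMod 2] V) v = w := by
  obtain ⟨g, hg, e⟩ := exists_to_one hv qv
  obtain ⟨k, hk, e'⟩ := exists_to_one hw qw
  refine ⟨k⁻¹ * g, mul_mem (inv_mem hk) hg, ?_⟩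
  show ((k⁻¹ : ↥O8) : V ≃ₗ[ZMod 2] V) ((g : V ≃ₗ[ZMod 2] V) v) = w
  rw [e, ← e']
  exact (k : V ≃ₗ[ZMod 2] V).symm_apply_apply w

end Cfsg.Agent.H240.F4
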