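import Cfsg.Agent.H240.F4.Card
import Cfsg.Agent.H240.F4.Gen
import Cfsg.Agent.H240.F4.Transp
import Cfsg.Agent.H181.TC.Twentyone
import Cfsg.Agent.S0294

/-!
# `L₄ ≃ Ω₈⁻(2)` from a homomorphism whose range contains the eight root elements; the class cover and the rank lists in `L₄`
(helper240, row F4 of S2491)
-/

set_option autoImplicit false

namespace Cfsg.Agent.H240.F4

open Cfsg.Agent.H181.O8m Cfsg.Agent.LieClassical.OrthCore Cfsg.Agent.LieClassical.OmegaReindex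
  Cfsg.Agent.LieClassical.OrthFinite
open Cfsg.Agent.H231.QF

universe u

instance finV : Finite (V ≃ₗ[ZMod 2] V) := Finite.of_injective (fun e : V ≃ₗ[ZMod 2] V => (e : V → V)) fun _ _ h =>
  LinearEquiv.ext fun x => congrFun h x

theorem card_N8_ge : 197406720 ≤ Nat.card ↥N8 := by
  have h1 : Nat.card (Cfsg.POmega (ZMod 2) (Cfsg.quadFormMinus 3 (ZMod 2) 1 1)) = 197406720 := by
    have hN := Cfsg.Agent.S0294.result (F := ZMod 2) (ZMod.card 2) 4 (by norm_num) 1 1 aniso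
    norm_num [Finset.prod_range_succ] at hN
    omega
  rw [← coe_quadMinus] at h1
  have h2 : Nat.card ↥N8 = Nat.card ↥(commutator (Cfsg.isometryGroup (ZMod 2) ⇑q)) := by
    rw [← map_N8]
    exact Nat.card_congr (Subgroup.equivMapOfInjective _ _ (isometryEquiv q).injective).toEquiv.symm
  rw [h2, ← h1]
  exact Nat.card_le_card_of_surjective
    (QuotientGroup.mk : ↥(commutator (Cfsg.isometryGroup (ZMod 2) ⇑q)) → Cfsg.POmega (ZMod 2) ⇑q)
    QuotientGroup.mk_surjective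

section

variable {F : Type u} [Field F] [Fintype F] (hF : Fintype.card F = 4) {φ : F →+* F} (hφ : ∀ t, φ t = t ^ 2)

include hF hφ

/-- a homomorphism `L₄ → O₈⁻(2)` whose range contains the eight root elements is injective with range `Ω₈⁻(2)` -/
theorem range_eq (ψ : ↥(Lv φ j4) →* ↥O8) (hgen : ∀ g : ↥O8, IsG g → g ∈ ψ.range) :
    Function.Injective ψ ∧ ψ.range = N8 := by
  have h1 : N8 ≤ ψ.range := N8_le hgen
  have h2 : Nat.card ↥N8 ≤ Nat.card ↥ψ.range := Nat.card_le_card_of_injective _ (Subgroup.inclusion_injective h1)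
  have h3 : Nat.card ↥ψ.range ≤ Nat.card ↥(Lv φ j4) := Nat.card_le_card_of_surjective _ ψ.rangeRestrict_surjective
  have h4 := card_Lv hF hφ
  have h5 := card_N8_ge
  constructor
  · have h6 : Function.Bijective ψ.rangeRestrict :=
      (Nat.bijective_iff_surjective_and_card _).2 ⟨ψ.rangeRestrict_surjective, by omega⟩
    intro a b hab
    exact h6.1 (Subtype.ext hab)
  · exact (Subgroup.eq_of_le_of_card_ge h1 (by omega)).symm

/-- **iden** from `ψ` -/
theorem iden_of (ψ : ↥(Lv φ j4) →* ↥O8) (hgen : ∀ g : ↥O8, IsG g → g ∈ ψ.range) :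
    Nonempty (↥(Lv φ j4) ≃* ↥N8) := by
  obtain ⟨h1, h2⟩ := range_eq hF hφ ψ hgen
  exact ⟨(MonoidHom.ofInjective h1).trans (MulEquiv.subgroupCongr h2)⟩

end

section

variable {F : Type u} [Field F] {φ : F →+* F}

/-- **the class cover in `L₄`** (helper590's `cover`) -/
theorem cover_of (e : Nonempty (↥(Lv φ j4) ≃* ↥N8)) (x : KK F) (hx : x ∈ Lv φ j4) (ho : orderOf x = 21)
    (l : KK F) (hl : l ∈ Lv φ j4) (hl1 : l ≠ 1) :
    ∃ a ∈ Lv φ j4, ∃ b ∈ Lv φ j4, l = a * x * a⁻¹ * (b * x⁻¹ * b⁻¹) := by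
  obtain ⟨e⟩ := e
  exact cover_transport e (fun _ ho' hl' hl1' => cover21 ho' hl' hl1') hx ho l hl hl1

/-- **the rank lists in `L₄`** (helper590's `rank`) -/
theorem rank_of (e : Nonempty (↥(Lv φ j4) ≃* ↥N8)) (x : KK F) (hx : x ∈ Lv φ j4) (ho : orderOf x = 21)
    (l : KK F) (hl : l ∈ Lv φ j4) (hl1 : l ≠ 1) :
    ∃ L : List (KK F), L.length ≤ 5 ∧ (∀ t ∈ L, ∃ k ∈ Lv φ j4, t = k * l * k⁻¹ ∨ t = k * l⁻¹ * k⁻¹) ∧
      ∃ k ∈ Lv φ j4, L.prod = k * x * k⁻¹ := by
  obtain ⟨e⟩ := e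
  exact rank_transport e (m := 5) (fun _ ho' hl' hl1' => by
    obtain ⟨L, h1, h2⟩ := rank21 ho' hl' hl1'
    exact ⟨L, by omega, h2⟩) hx ho l hl hl1

end

end Cfsg.Agent.H240.F4
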