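import Cfsg.Agent.H240.F4.CovRk
import Cfsg.Agent.H588.F4.Main

/-!
# `L₄ ≃ Ω₈⁻(2)` in `²E₆(2)`, the class cover and the rank lists (helper240, row F4 of S2491)
-/

set_option autoImplicit false

namespace Cfsg.Agent.H240.F4

open Cfsg.Agent.H181.O8m
open Cfsg.Agent.H231.QF

universe u

variable {F : Type u} [Field F] [Fintype F] (hF : Fintype.card F = 4) {φ : F →+* F} (hφ : ∀ t, φ t = t ^ 2)

include hF hφ

/-- **iden** -/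
theorem iden : Nonempty (↥(Lv φ j4) ≃* ↥N8) := by
  obtain ⟨p, ψ, -, -, -, h, -⟩ := Cfsg.Agent.H588.F4.exists_model hF hφ
  exact iden_of hF hφ ψ h

/-- **COV** (stub `cover`) -/
theorem cover {x : KK F} (hx : x ∈ Lv φ j4) (ho : orderOf x = 21) (l : KK F) (hl : l ∈ Lv φ j4) (hl1 : l ≠ 1) :
    ∃ a ∈ Lv φ j4, ∃ b ∈ Lv φ j4, l = a * x * a⁻¹ * (b * x⁻¹ * b⁻¹) :=
  cover_of (iden hF hφ) x hx ho l hl hl1

/-- **RK** (stub `rank`) -/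
theorem rank {x : KK F} (hx : x ∈ Lv φ j4) (ho : orderOf x = 21) (l : KK F) (hl : l ∈ Lv φ j4) (hl1 : l ≠ 1) :
    ∃ L : List (KK F), L.length ≤ 5 ∧ (∀ t ∈ L, ∃ k ∈ Lv φ j4, t = k * l * k⁻¹ ∨ t = k * l⁻¹ * k⁻¹) ∧
      ∃ k ∈ Lv φ j4, L.prod = k * x * k⁻¹ :=
  rank_of (iden hF hφ) x hx ho l hl hl1

end Cfsg.Agent.H240.F4
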